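import Mathlib
/-!
Over an uncountable field, countably many closed subsets missing a point miss a closed point below it.
-/

universe u

open AlgebraicGeometry CategoryTheory TopologicalSpace

set_option autoImplicit false
set_option backward.isDefEq.respectTransparency false

namespace Groth.Agent.UncountAvoid

/-- Countably many nonzero polynomials have a common non-zero. -/
theorem exists_eval_ne_zero {k : Type u} [Field k] [Uncountable k] :
    ∀ (d : ℕ) (g : ℕ → MvPolynomial (Fin d) k), (∀ n, g n ≠ 0) →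
      ∃ a : Fin d → k, ∀ n, MvPolynomial.eval a (g n) ≠ 0
  | 0, g, hg => ⟨Fin.elim0, fun n h => hg n (by
      rw [MvPolynomial.eq_C_of_isEmpty (g n)] at h ⊢
      rw [MvPolynomial.eval_C] at h
      rw [h, map_zero])⟩
  | d + 1, g, hg => by
    have hq : ∀ n, MvPolynomial.finSuccEquiv k d (g n) ≠ 0 := fun n h =>
      hg n ((MvPolynomial.finSuccEquiv k d).injective (by rw [h, map_zero]))
    obtain ⟨a, ha⟩ := exists_eval_ne_zero d (fun n => (MvPolynomial.finSuccEquiv k d (g n)).leadingCoeff)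
      (fun n => Polynomial.leadingCoeff_ne_zero.2 (hq n))
    let P : ℕ → Polynomial k := fun n => (MvPolynomial.finSuccEquiv k d (g n)).map (MvPolynomial.eval a)
    have hP : ∀ n, P n ≠ 0 := fun n h => ha n (by
      have h1 := congrArg (fun p => Polynomial.coeff p (MvPolynomial.finSuccEquiv k d (g n)).natDegree) h
      simpa [P, Polynomial.coeff_map] using h1)
    have hc : (⋃ n, {x : k | (P n).IsRoot x}).Countable :=
      Set.countable_iUnion fun n => (Polynomial.finite_setOf_isRoot (hP n)).countable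
    obtain ⟨y, hy⟩ : ∃ y, y ∉ ⋃ n, {x : k | (P n).IsRoot x} := by
      by_contra h
      exact not_countable_iff.2 ‹Uncountable k› (Set.countable_univ_iff.1
        (hc.mono fun x _ => not_not.1 fun hx => h ⟨x, hx⟩))
    refine ⟨Fin.cons y a, fun n hn => hy (Set.mem_iUnion.2 ⟨n, ?_⟩)⟩
    rw [MvPolynomial.eval_eq_eval_mv_eval'] at hn
    exact hn

/-- A finite type domain over an uncountable field has a maximal ideal avoiding countably many
nonzero elements. -/
theorem exists_maximal_avoid {k A : Type u} [Field k] [Uncountable k] [CommRing A] [IsDomain A]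
    [Algebra k A] [Algebra.FiniteType k A] (f : ℕ → A) (hf : ∀ n, f n ≠ 0) :
    ∃ M : Ideal A, M.IsMaximal ∧ ∀ n, f n ∉ M := by
  obtain ⟨d, φ, hinj, hfin⟩ := exists_finite_inj_algHom_of_fg k A
  letI := φ.toRingHom.toAlgebra
  haveI : Module.Finite (MvPolynomial (Fin d) k) A := hfin
  have hg : ∀ n, ∃ g : MvPolynomial (Fin d) k, g ≠ 0 ∧ φ g ∈ Ideal.span {f n} := fun n => by
    have h := Ideal.comap_ne_bot_of_integral_mem (R := MvPolynomial (Fin d) k) (I := Ideal.span {f n})
      (hf n) (Ideal.mem_span_singleton_self _) (Algebra.IsIntegral.isIntegral _)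
    obtain ⟨g, hg, hg0⟩ := Submodule.exists_mem_ne_zero_of_ne_bot h
    exact ⟨g, hg0, hg⟩
  choose g hg0 hgf using hg
  obtain ⟨a, ha⟩ := exists_eval_ne_zero d g hg0
  let 𝔪 : Ideal (MvPolynomial (Fin d) k) := RingHom.ker (MvPolynomial.eval a)
  haveI h𝔪 : 𝔪.IsMaximal :=
    RingHom.ker_isMaximal_of_surjective _ fun c => ⟨MvPolynomial.C c, MvPolynomial.eval_C _⟩
  obtain ⟨M, hM, hMm⟩ := Ideal.exists_ideal_over_maximal_of_isIntegral (S := A) 𝔪 (by
    rw [(RingHom.injective_iff_ker_eq_bot (algebraMap (MvPolynomial (Fin d) k) A)).1 hinj]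
    exact bot_le)
  refine ⟨M, hM, fun n hn => ha n ?_⟩
  have h1 : g n ∈ M.under (MvPolynomial (Fin d) k) := (Ideal.span_singleton_le_iff_mem M).2 hn (hgf n)
  rw [Ideal.under] at h1
  rw [hMm] at h1
  exact h1

/-- Below every point of a scheme locally of finite type over an uncountable field there is a closed point
avoiding any countable family of closed subsets that avoid the point. -/
theorem exists_closedPoint_avoid {k : Type u} [Field k] [Uncountable k] {X : Scheme.{u}}
    (sX : X ⟶ Spec (CommRingCat.of k)) [LocallyOfFiniteType sX] (ξ : X) (Z : ℕ → Closeds X)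
    (h : ∀ n, ξ ∉ Z n) : ∃ x : X, IsClosed ({x} : Set X) ∧ ξ ⤳ x ∧ ∀ n, x ∉ Z n := by
  obtain ⟨W, hW, hξ, -⟩ := exists_isAffineOpen_mem_and_subset (show ξ ∈ (⊤ : X.Opens) from trivial)
  let ρ : k →+* Γ(X, W) := (sX.appLE ⊤ W le_top).hom.comp (Scheme.ΓSpecIso (CommRingCat.of k)).inv.hom
  have hρ : ρ.FiniteType := by
    have h1 : (sX.appLE ⊤ W le_top).hom.FiniteType :=
      HasRingHomProperty.appLE @LocallyOfFiniteType sX inferInstance ⟨⊤, isAffineOpen_top _⟩ ⟨W, hW⟩ le_top
    exact h1.comp (RingHom.FiniteType.of_surjective _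
      (ConcreteCategory.bijective_of_isIso (Scheme.ΓSpecIso (CommRingCat.of k)).inv).2)
  let P := (hW.primeIdealOf ⟨ξ, hξ⟩).asIdeal
  have e : hW.fromSpec (hW.primeIdealOf ⟨ξ, hξ⟩) = ξ := hW.fromSpec_primeIdealOf ⟨ξ, hξ⟩
  haveI : P.IsPrime := (hW.primeIdealOf ⟨ξ, hξ⟩).isPrime
  letI : Algebra k Γ(X, W) := ρ.toAlgebra
  haveI : Algebra.FiniteType k Γ(X, W) := hρ
  haveI : Algebra.FiniteType k (Γ(X, W) ⧸ P) :=
    .of_surjective (Ideal.Quotient.mkₐ k P) Ideal.Quotient.mk_surjective
  have hcl : ∀ n, ∃ f : Γ(X, W), f ∉ P ∧ ∀ y : PrimeSpectrum Γ(X, W), hW.fromSpec y ∈ Z n → f ∈ y.asIdeal := by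
    intro n
    obtain ⟨S, hS⟩ := (PrimeSpectrum.isClosed_iff_zeroLocus (R := Γ(X, W))
      (hW.fromSpec ⁻¹' (Z n : Set X))).1 ((Z n).isClosed.preimage hW.fromSpec.continuous)
    have hn : hW.primeIdealOf ⟨ξ, hξ⟩ ∉ hW.fromSpec ⁻¹' (Z n : Set X) := by
      intro hmem
      rw [Set.mem_preimage, e] at hmem
      exact h n hmem
    rw [hS] at hn
    obtain ⟨f, hfS, hfP⟩ := Set.not_subset.1 hn
    exact ⟨f, hfP, fun y hy => (Set.ext_iff.1 hS y).1 hy hfS⟩
  choose f hfP hfZ using hcl
  obtain ⟨M, hM, hMf⟩ := exists_maximal_avoid (k := k) (fun n => Ideal.Quotient.mk P (f n))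
    (fun n h0 => hfP n (Ideal.Quotient.eq_zero_iff_mem.1 h0))
  haveI := hM
  let y : PrimeSpectrum Γ(X, W) := ⟨M.comap (Ideal.Quotient.mk P), inferInstance⟩
  have hyM : y.asIdeal.IsMaximal := Ideal.comap_isMaximal_of_surjective _ Ideal.Quotient.mk_surjective
  haveI : JacobsonSpace X := LocallyOfFiniteType.jacobsonSpace sX
  refine ⟨hW.fromSpec y, ?_, ?_, fun n hn => hMf n (hfZ n y hn)⟩
  · refine isClosed_singleton_of_isLocallyClosed_singleton ?_
    have : IsClosed ({y} : Set (Spec Γ(X, W))) := (PrimeSpectrum.isClosed_singleton_iff_isMaximal y).2 hyM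
    simpa using this.isLocallyClosed.image hW.fromSpec.isOpenEmbedding.isInducing
      hW.fromSpec.isOpenEmbedding.isOpen_range.isLocallyClosed
  · rw [← e]
    refine Specializes.map ((PrimeSpectrum.le_iff_specializes _ y).1 fun a ha => ?_) hW.fromSpec.continuous
    show Ideal.Quotient.mk P a ∈ M
    rw [Ideal.Quotient.eq_zero_iff_mem.2 ha]
    exact zero_mem M

/-- A closed irreducible subset of such a scheme whose closed points lie in a countable union of closed
subsets lies in one of them. -/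
theorem exists_subset_of_closedPoints {k : Type u} [Field k] [Uncountable k] {X : Scheme.{u}}
    (sX : X ⟶ Spec (CommRingCat.of k)) [LocallyOfFiniteType sX] {T : Closeds X}
    (hT : IsIrreducible (T : Set X)) (Z : ℕ → Closeds X)
    (h : ∀ x : X, IsClosed ({x} : Set X) → x ∈ T → ∃ n, x ∈ Z n) : ∃ n, (T : Set X) ⊆ Z n := by
  by_contra hc
  obtain ⟨x, hx, hspec, hxZ⟩ := exists_closedPoint_avoid sX hT.genericPoint Z fun n hn => hc ⟨n, by
    rw [← T.isClosed.closure_eq, ← hT.isGenericPoint_genericPoint_closure.def]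
    exact closure_minimal (Set.singleton_subset_iff.2 hn) (Z n).isClosed⟩
  have hmem := hT.isGenericPoint_genericPoint_closure.mem
  rw [T.isClosed.closure_eq] at hmem
  obtain ⟨n, hn⟩ := h x hx (hspec.mem_closed T.isClosed hmem)
  exact hxZ n hn

end Groth.Agent.UncountAvoid
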